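import Mathlib
import Cfsg.Agent.Lib.HallPetresco.Basic

/-!
A lower bound on the order of a finite p-group in terms of its derived length:
`|P| ≥ p ^ (2 ^ k + 2 * k - 2)` when the `k`-th derived subgroup is nontrivial.
-/

set_option autoImplicit false

namespace Cfsg.Agent.Lib.MannDerived

open Subgroup
open scoped commutatorElement

variable {P : Type*} [Group P]

/-- The repeated commutators `[N, P, ..., P]`. -/
def iterComm (N : Subgroup P) : ℕ → Subgroup P
  | 0 => N
  | l + 1 => ⁅iterComm N l, (⊤ : Subgroup P)⁆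

instance iterComm_normal (N : Subgroup P) [N.Normal] (l : ℕ) : (iterComm N l).Normal := by
  induction l with
  | zero => simpa [iterComm]
  | succ l ih => exact Subgroup.commutator_normal _ _

theorem iterComm_succ_le (N : Subgroup P) [N.Normal] (l : ℕ) : iterComm N (l + 1) ≤ iterComm N l :=
  Subgroup.commutator_le_left _ _

theorem iterComm_antitone (N : Subgroup P) [N.Normal] : Antitone (iterComm N) :=
  antitone_nat_of_succ_le (iterComm_succ_le N)

local notation "γ" => Subgroup.lowerCentralSeries (⊤ : Subgroup P)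

theorem iterComm_le {N : Subgroup P} {s : ℕ} (h : N ≤ γ s) : ∀ l, iterComm N l ≤ γ (s + l)
  | 0 => h
  | l + 1 => Subgroup.commutator_mono (iterComm_le h l) le_rfl

theorem commutator_iterComm_le (N : Subgroup P) [N.Normal] :
    ∀ j l : ℕ, ⁅iterComm N l, γ j⁆ ≤ iterComm N (l + j + 1)
  | 0, l => by simp [iterComm]
  | j + 1, l => by
    rw [Subgroup.lowerCentralSeries_succ, Subgroup.commutator_comm]
    refine HallPetresco.commutator_commutator_le_of_rotate (iterComm N (l + (j + 1) + 1)) ?_ ?_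
    · have h : ⁅iterComm N (l + 1), γ j⁆ ≤ iterComm N (l + 1 + j + 1) :=
        commutator_iterComm_le N j (l + 1)
      rw [Subgroup.commutator_comm ⊤ (iterComm N l)]
      exact h.trans (le_of_eq (by congr 1; omega))
    · exact (Subgroup.commutator_mono (commutator_iterComm_le N j l) le_rfl :
        ⁅⁅iterComm N l, γ j⁆, (⊤ : Subgroup P)⁆ ≤ iterComm N (l + j + 1 + 1))

theorem commutator_le_iff_map {K : Subgroup P} [K.Normal] (X Y : Subgroup P) :
    ⁅X, Y⁆ ≤ K ↔ X.map (QuotientGroup.mk' K) ≤ Subgroup.centralizer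
      ((Y.map (QuotientGroup.mk' K) : Subgroup (P ⧸ K)) : Set (P ⧸ K)) := by
  rw [← Subgroup.commutator_eq_bot_iff_le_centralizer, ← Subgroup.map_commutator,
    Subgroup.map_eq_bot_iff, QuotientGroup.ker_mk']

theorem commutator_sup_left_le {A B C K : Subgroup P} [K.Normal] (hA : ⁅A, C⁆ ≤ K)
    (hB : ⁅B, C⁆ ≤ K) : ⁅A ⊔ B, C⁆ ≤ K := by
  rw [commutator_le_iff_map] at hA hB ⊢
  rw [Subgroup.map_sup]
  exact sup_le hA hB

theorem commutator_sup_right_le {A B C K : Subgroup P} [K.Normal] (hA : ⁅C, A⁆ ≤ K)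
    (hB : ⁅C, B⁆ ≤ K) : ⁅C, A ⊔ B⁆ ≤ K := by
  rw [Subgroup.commutator_comm] at hA hB ⊢
  exact commutator_sup_left_le hA hB

theorem commutator_sup_self_le {A B K : Subgroup P} [K.Normal] (hA : ⁅A, A⁆ ≤ K) (hAB : ⁅A, B⁆ ≤ K)
    (hB : ⁅B, B⁆ ≤ K) : ⁅A ⊔ B, A ⊔ B⁆ ≤ K :=
  commutator_sup_left_le (commutator_sup_right_le hA hAB)
    (commutator_sup_right_le (by rw [Subgroup.commutator_comm]; exact hAB) hB)

theorem commutator_zpowers_le {a b : P} {K : Subgroup P} [K.Normal] (h : ⁅a, b⁆ ∈ K) :
    ⁅Subgroup.zpowers a, Subgroup.zpowers b⁆ ≤ K := by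
  have hc : Commute (QuotientGroup.mk' K a) (QuotientGroup.mk' K b) := by
    rw [← commutatorElement_eq_one_iff_commute, ← map_commutatorElement]
    exact (QuotientGroup.eq_one_iff _).2 h
  rw [Subgroup.commutator_le]
  rintro x ⟨i, rfl⟩ y ⟨j, rfl⟩
  have : ⁅QuotientGroup.mk' K (a ^ i), QuotientGroup.mk' K (b ^ j)⁆ = 1 := by
    rw [commutatorElement_eq_one_iff_commute, map_zpow, map_zpow]
    exact hc.zpow_zpow i j
  rw [← map_commutatorElement] at this
  exact (QuotientGroup.eq_one_iff _).1 this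

theorem commutator_zpowers_self (a : P) :
    ⁅Subgroup.zpowers a, Subgroup.zpowers a⁆ = (⊥ : Subgroup P) := by
  rw [Subgroup.commutator_eq_bot_iff_le_centralizer]
  rintro x ⟨i, rfl⟩ y ⟨j, rfl⟩
  exact (Commute.refl a).zpow_zpow j i

theorem derived_le (i : ℕ) : derivedSeries P i ≤ γ (2 ^ i - 1) := by
  induction i with
  | zero => simp
  | succ i ih =>
    rw [derivedSeries_succ]
    refine ((Subgroup.commutator_mono ih ih).trans
      (HallPetresco.commutator_lowerCentralSeries_le _ _)).trans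
      (Subgroup.lowerCentralSeries_antitone _ ?_)
    have := Nat.one_le_two_pow (n := i)
    rw [pow_succ]; omega

variable [Finite P] (p : ℕ)

/-- The exponent of `p` in the order of a subgroup. -/
noncomputable def lg (H : Subgroup P) : ℕ := (Nat.card H).factorization p

variable {p} [hp : Fact p.Prime]

theorem card_eq (hP : IsPGroup p P) (H : Subgroup P) : Nat.card H = p ^ lg p H := by
  obtain ⟨m, hm⟩ := IsPGroup.iff_card.1 (hP.to_subgroup H)
  rw [lg, hm, hp.out.factorization_pow, Finsupp.single_eq_same]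

theorem lg_mono (hP : IsPGroup p P) {H K : Subgroup P} (h : H ≤ K) : lg p H ≤ lg p K := by
  have := Subgroup.card_le_of_le h
  rw [card_eq hP, card_eq hP] at this
  exact (Nat.pow_le_pow_iff_right hp.out.one_lt).1 this

theorem eq_of_lg_le (hP : IsPGroup p P) {H K : Subgroup P} (h : H ≤ K) (h' : lg p K ≤ lg p H) :
    H = K := by
  refine Subgroup.eq_of_le_of_card_ge h ?_
  rw [card_eq hP, card_eq hP]
  exact Nat.pow_le_pow_right hp.out.pos h'

theorem lg_lt (hP : IsPGroup p P) {H K : Subgroup P} (h : H < K) : lg p H < lg p K :=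
  lt_of_not_ge fun h' => h.ne (eq_of_lg_le hP h.le h')

theorem lg_pos (hP : IsPGroup p P) {H : Subgroup P} (h : H ≠ ⊥) : 0 < lg p H :=
  lt_of_not_ge fun h' => h (eq_of_lg_le hP bot_le (h'.trans (Nat.zero_le _))).symm

theorem commutator_top_ne (hP : IsPGroup p P) {W : Subgroup P} (hW : W ≠ ⊥) :
    ⁅W, (⊤ : Subgroup P)⁆ ≠ W := by
  intro h
  apply hW
  have : ∀ j, W ≤ γ j := by
    intro j
    induction j with
    | zero => simp
    | succ j ih => exact h.symm.le.trans (Subgroup.commutator_mono ih le_rfl)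
  haveI hnil := hP.isNilpotent
  exact eq_bot_iff.2 ((this _).trans (le_of_eq Subgroup.lowerCentralSeries_nilpotencyClass))

theorem lg_iterComm (hP : IsPGroup p P) (N : Subgroup P) [N.Normal] {a b : ℕ} (hab : a ≤ b)
    (h : iterComm N b ≠ ⊥) : lg p (iterComm N b) + (b - a) ≤ lg p (iterComm N a) := by
  induction b, hab using Nat.le_induction with
  | base => simp
  | succ b hab ih =>
    have hb : iterComm N b ≠ ⊥ := fun hh => h (eq_bot_iff.2 ((iterComm_succ_le N b).trans hh.le))
    have hlt := lg_lt hP (lt_of_le_of_ne (iterComm_succ_le N b) (commutator_top_ne hP hb))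
    have := ih hb
    omega

theorem normal_of_commutator_top_le {H : Subgroup P} (h : ⁅H, (⊤ : Subgroup P)⁆ ≤ H) : H.Normal := by
  refine ⟨fun x hx g => ?_⟩
  have hc : ⁅x, g⁆ ∈ H := h (Subgroup.commutator_mem_commutator hx (Subgroup.mem_top g))
  have : g * x * g⁻¹ = ⁅x, g⁆⁻¹ * x := by
    rw [commutatorElement_def]; group
  rw [this]
  exact mul_mem (inv_mem hc) hx

/-- One step down the derived series: the index of `N'` in `N` is large, and if it is as small as
possible then `N'` is either deep in the lower central series or cyclic modulo a deep term. -/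
theorem step (hP : IsPGroup p P) (N : Subgroup P) [N.Normal] {t : ℕ} (ht : 1 ≤ t)
    (hN : N ≤ γ (t - 1)) (hN' : ⁅N, N⁆ ≠ ⊥) :
    lg p ⁅N, N⁆ + (t + 1) ≤ lg p N ∧
    (lg p N < lg p ⁅N, N⁆ + (t + 2) →
      ⁅N, N⁆ ≤ γ (2 * t) ∨ ∃ c ∈ γ (2 * t - 1), ⁅N, N⁆ ≤ Subgroup.zpowers c ⊔ γ (2 * t)) := by
  set W := iterComm N with hWdef
  have hW0 : W 0 = N := rfl
  have hN'W : ⁅N, N⁆ ≤ W t := by
    refine (Subgroup.commutator_mono (le_refl (W 0)) hN).trans ?_
    exact (commutator_iterComm_le N (t - 1) 0).trans (le_of_eq (by congr 1; omega))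
  have hW1N : ⁅W 1, N⁆ ≤ W (t + 1) := by
    refine (Subgroup.commutator_mono le_rfl hN).trans ?_
    exact (commutator_iterComm_le N (t - 1) 1).trans (le_of_eq (by congr 1; omega))
  have hW1W1 : ⁅W 1, W 1⁆ ≤ W (t + 1) :=
    (Subgroup.commutator_mono le_rfl (iterComm_succ_le N 0)).trans hW1N
  have hWt : W t ≠ ⊥ := fun h => hN' (eq_bot_iff.2 (hN'W.trans h.le))
  have hW1 : W 1 ≠ ⊥ := fun h => hWt (eq_bot_iff.2 ((iterComm_antitone N ht).trans h.le))
  have hlt : W 1 < N := lt_of_le_of_ne (iterComm_succ_le N 0)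
    (commutator_top_ne hP (fun h => hN' (by
      change N = ⊥ at h
      rw [h, Subgroup.commutator_bot_left])))
  have hl1 : lg p (W 1) < lg p N := lg_lt hP hlt
  obtain ⟨a, haN, haW⟩ := SetLike.exists_of_lt hlt
  have hMle : Subgroup.zpowers a ⊔ W 1 ≤ N :=
    sup_le (Subgroup.zpowers_le.2 haN) hlt.le
  have hlM : lg p (W 1) < lg p (Subgroup.zpowers a ⊔ W 1) :=
    lg_lt hP (lt_of_le_of_ne le_sup_right fun h => haW (by
      rw [h]; exact Subgroup.mem_sup_left (Subgroup.mem_zpowers a)))
  have haW1 : ⁅Subgroup.zpowers a, W 1⁆ ≤ W (t + 1) := by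
    rw [Subgroup.commutator_comm]
    exact (Subgroup.commutator_mono le_rfl (Subgroup.zpowers_le.2 haN)).trans hW1N
  have hdeep : W (t + 1) ≤ γ (2 * t) :=
    (iterComm_le hN (t + 1)).trans (le_of_eq (by congr 1; omega))
  by_cases hcyc : Subgroup.zpowers a ⊔ W 1 = N
  · have hle : ⁅N, N⁆ ≤ W (t + 1) := by
      rw [← hcyc]
      exact commutator_sup_self_le (by rw [commutator_zpowers_self]; exact bot_le) haW1 hW1W1
    have hne : W (t + 1) ≠ ⊥ := fun h => hN' (eq_bot_iff.2 (hle.trans h.le))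
    refine ⟨?_, fun _ => Or.inl (hle.trans hdeep)⟩
    have h1 := lg_iterComm hP N (Nat.zero_le (t + 1)) hne
    have h2 := lg_mono hP hle
    simp only [hW0, Nat.sub_zero, ← hWdef] at h1
    omega
  · obtain ⟨b, hbN, hbM⟩ := SetLike.exists_of_lt (lt_of_le_of_ne hMle hcyc)
    have hlB : lg p (Subgroup.zpowers a ⊔ W 1) <
        lg p (Subgroup.zpowers b ⊔ (Subgroup.zpowers a ⊔ W 1)) :=
      lg_lt hP (lt_of_le_of_ne le_sup_right fun h => hbM (by
        rw [h]; exact Subgroup.mem_sup_left (Subgroup.mem_zpowers b)))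
    have hBle : Subgroup.zpowers b ⊔ (Subgroup.zpowers a ⊔ W 1) ≤ N :=
      sup_le (Subgroup.zpowers_le.2 hbN) hMle
    have h1 := lg_iterComm hP N ht hWt
    have h2 := lg_mono hP hN'W
    have h3 := lg_mono hP hBle
    simp only [← hWdef] at h1
    refine ⟨by omega, fun hsmall => Or.inr ⟨⁅b, a⁆, ?_, ?_⟩⟩
    · exact Subgroup.lowerCentralSeries_antitone _ (by omega)
        (HallPetresco.commutator_lowerCentralSeries_le (t - 1) (t - 1)
          (Subgroup.commutator_mem_commutator (hN hbN) (hN haN)))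
    · have hB : Subgroup.zpowers b ⊔ (Subgroup.zpowers a ⊔ W 1) = N :=
        eq_of_lg_le hP hBle (by omega)
      have hba : ⁅b, a⁆ ∈ W t := hN'W (Subgroup.commutator_mem_commutator hbN haN)
      set K := Subgroup.zpowers ⁅b, a⁆ ⊔ W (t + 1)
      haveI : K.Normal := normal_of_commutator_top_le
        (((Subgroup.commutator_mono (sup_le (Subgroup.zpowers_le.2 hba) (iterComm_succ_le N t))
          le_rfl : ⁅K, ⊤⁆ ≤ ⁅W t, ⊤⁆)).trans le_sup_right)
      have hWK : W (t + 1) ≤ K := le_sup_right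
      have hle : ⁅N, N⁆ ≤ K := by
        rw [← hB]
        refine commutator_sup_self_le (by rw [commutator_zpowers_self]; exact bot_le) ?_ ?_
        · refine commutator_sup_right_le
            (commutator_zpowers_le (Subgroup.mem_sup_left (Subgroup.mem_zpowers _))) ?_
          rw [Subgroup.commutator_comm]
          exact ((Subgroup.commutator_mono le_rfl (Subgroup.zpowers_le.2 hbN)).trans hW1N).trans hWK
        · exact commutator_sup_self_le (by rw [commutator_zpowers_self]; exact bot_le)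
            (haW1.trans hWK) (hW1W1.trans hWK)
      exact hle.trans (sup_le_sup_left hdeep _)

/-- The bound on the order. -/
theorem derived_length_bound (hP : IsPGroup p P) (k : ℕ) (hk : derivedSeries P k ≠ ⊥) :
    2 ^ k + 2 * k ≤ lg p (⊤ : Subgroup P) + 2 := by
  have key : ∀ i ≤ k,
      (2 ^ i + 2 * i + lg p (derivedSeries P i) ≤ lg p (⊤ : Subgroup P) + 1) ∨
      (2 ^ i + 2 * i + lg p (derivedSeries P i) ≤ lg p (⊤ : Subgroup P) + 2 ∧
        ∃ c ∈ γ (2 ^ i - 1), derivedSeries P i ≤ Subgroup.zpowers c ⊔ γ (2 ^ i)) ∨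
      (2 ^ i + 2 * i + lg p (derivedSeries P i) ≤ lg p (⊤ : Subgroup P) + 3 ∧
        derivedSeries P i ≤ γ (2 ^ i)) := by
    intro i hi
    induction i with
    | zero => left; simp; omega
    | succ i ih =>
      have hne : ⁅derivedSeries P i, derivedSeries P i⁆ ≠ ⊥ := fun h => hk (eq_bot_iff.2
        ((derivedSeries_antitone P hi).trans (by rw [derivedSeries_succ, h])))
      have ht := Nat.one_le_two_pow (n := i)
      obtain ⟨hbase, hmin⟩ := step hP (derivedSeries P i) ht (derived_le i) hne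
      rw [derivedSeries_succ]
      have h2 : 2 ^ (i + 1) = 2 * 2 ^ i := by rw [pow_succ']
      rw [h2]
      rcases ih (by omega) with h | ⟨h, c, hc, hle⟩ | ⟨h, hle⟩
      · by_cases hbig : lg p (derivedSeries P i) <
            lg p ⁅derivedSeries P i, derivedSeries P i⁆ + (2 ^ i + 2)
        · rcases hmin hbig with hA | hB
          · exact Or.inr (Or.inr ⟨by omega, hA⟩)
          · exact Or.inr (Or.inl ⟨by omega, hB⟩)
        · exact Or.inl (by omega)
      · refine Or.inr (Or.inr ⟨by omega, ?_⟩)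
        refine (Subgroup.commutator_mono hle hle).trans ?_
        refine commutator_sup_self_le (by rw [commutator_zpowers_self]; exact bot_le) ?_ ?_
        · exact ((Subgroup.commutator_mono (Subgroup.zpowers_le.2 hc) le_rfl).trans
            (HallPetresco.commutator_lowerCentralSeries_le _ _)).trans
            (Subgroup.lowerCentralSeries_antitone _ (by omega))
        · exact (HallPetresco.commutator_lowerCentralSeries_le _ _).trans
            (Subgroup.lowerCentralSeries_antitone _ (by omega))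
      · obtain ⟨hb2, -⟩ := step hP (derivedSeries P i) (t := 2 ^ i + 1) (by omega) hle hne
        refine Or.inr (Or.inr ⟨by omega, ?_⟩)
        exact ((Subgroup.commutator_mono hle hle).trans
          (HallPetresco.commutator_lowerCentralSeries_le _ _)).trans
          (Subgroup.lowerCentralSeries_antitone _ (by omega))
  have hpos := lg_pos hP hk
  rcases key k le_rfl with h | ⟨h, -⟩ | ⟨h, -⟩ <;> omega

end Cfsg.Agent.Lib.MannDerived
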